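import Cfsg.Agent.Lib.Sporadic.LyCent.CoverDefs

/-!
# Checks on the involution and the element of order three
-/

set_option autoImplicit false
set_option maxRecDepth 100000

namespace CfsgLib.Sporadic.CosetCert.LyCent

open LyG2Five WideMatrix

theorem base_ok : ([mT, mW, mWi, mV, mVi].all fun X => okRows 111 X) = true := by decide +kernel

theorem three_ok : ((List.range 9).all fun i => okRows 111 (mA i) && okRows 111 (mAi i)) = true := by decide +kernel

theorem base_chk : isOne111 [lett111 0, lett111 0, lett111 0, lett111 0, mT] = true ∧ isOne111 [mT, mT] = true ∧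
    isOne111 (letts wW ++ [mWi]) = true ∧ isOne111 [mW, mWi] = true ∧
    isOne111 (List.replicate wE mW ++ [mVi]) = true ∧ isOne111 [mV, mVi] = true := by decide +kernel

end CfsgLib.Sporadic.CosetCert.LyCent
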