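import Cfsg.Agent.Lib.Sporadic.LyCent.StabDefs

/-!
# Checks for class 2
-/

set_option autoImplicit false
set_option maxRecDepth 100000

namespace CfsgLib.Sporadic.CosetCert.LyCent

theorem innerTree2 : treeOK 2 4 km2_Tab kp2_Tab = true := by decide +kernel

theorem outerTree2 : treeOK 2 252 tm2_Tab tp2_Tab = true := by decide +kernel

theorem inner2 : innerOK 4 3211 km2_Tab kc2_Tab = true := by decide +kernel

theorem outer2 : outerOK 252 3211 tm2_Tab ty2_Tab tc2_Tab = true := by decide +kernel

theorem count2 : countOK 4 252 106 km2_Tab tm2_Tab = true := by decide +kernel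

end CfsgLib.Sporadic.CosetCert.LyCent
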