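import Cfsg.Agent.Lib.Sporadic.LyCent.StabDefs

/-!
# Checks for class 3
-/

set_option autoImplicit false
set_option maxRecDepth 100000

namespace CfsgLib.Sporadic.CosetCert.LyCent

theorem innerTree3 : treeOK 3 4 km3_Tab kp3_Tab = true := by decide +kernel

theorem outerTree3 : treeOK 3 720 tm3_Tab tp3_Tab = true := by decide +kernel

theorem inner3 : innerOK 4 3211 km3_Tab kc3_Tab = true := by decide +kernel

theorem outer3 : outerOK 720 3211 tm3_Tab ty3_Tab tc3_Tab = true := by decide +kernel

theorem count3 : countOK 4 720 212 km3_Tab tm3_Tab = true := by decide +kernel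

end CfsgLib.Sporadic.CosetCert.LyCent
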