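import Cfsg.Agent.Lib.Sporadic.LyCent.StabDefs

/-!
# Checks for class 4
-/

set_option autoImplicit false
set_option maxRecDepth 100000

namespace CfsgLib.Sporadic.CosetCert.LyCent

theorem innerTree4 : treeOK 4 96 km4_Tab kp4_Tab = true := by decide +kernel

theorem outerTree4 : treeOK 4 63 tm4_Tab tp4_Tab = true := by decide +kernel

theorem inner4 : innerOK 96 3211 km4_Tab kc4_Tab = true := by decide +kernel

theorem outer4 : outerOK 63 3211 tm4_Tab ty4_Tab tc4_Tab = true := by decide +kernel

theorem count4 : countOK 96 63 64 km4_Tab tm4_Tab = true := by decide +kernel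

end CfsgLib.Sporadic.CosetCert.LyCent
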