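import Cfsg.Agent.Lib.Sporadic.LyCent.StabDefs

/-!
# Checks for class 1
-/

set_option autoImplicit false
set_option maxRecDepth 100000

namespace CfsgLib.Sporadic.CosetCert.LyCent

theorem tree1 : treeOK 1 13 m1_Tab p1_Tab = true := by decide +kernel

theorem five1 : fiveOK = true := by decide +kernel

theorem g1_lt : g1 < 13 := by decide +kernel

end CfsgLib.Sporadic.CosetCert.LyCent
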