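import Cfsg.Agent.Lib.Sporadic.LyCent.CoverDefs

/-!
# Checks on the nine elements, first half
-/

set_option autoImplicit false
set_option maxRecDepth 100000

namespace CfsgLib.Sporadic.CosetCert.LyCent

open LyG2Five WideMatrix

theorem three_chkA : ((List.range 5).all oneChk) = true := by decide +kernel

end CfsgLib.Sporadic.CosetCert.LyCent
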